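import Cfsg.Agent.H979.IFx.Fi24B
import Cfsg.Agent.H672.IF.Fi24A
import Cfsg.Agent.H546.IF.OddFi24

/-!
# S5719: the row `Fi₂₄'` (helper979; case 2A: helper672, `|A|` odd: helper546)
-/

set_option autoImplicit false

namespace Cfsg.Agent.H979.IFx.Fi24

open Subgroup Cfsg Cfsg.Spor Cfsg.Agent.H209.Fxy
open Cfsg.Agent.R08.FiTwentyFour (L)

theorem killE_model (hna : ∃ a b : Spor.Fi24', a * b ≠ b * a) [IsSimpleGroup Spor.Fi24'] : KillE Spor.Fi24' := by
  rintro A Γ h ⟨t, ht, ho⟩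
  have hno : ∀ a ∈ L, ∀ b ∈ L, a ≠ b → Commute a b →
      ∀ t : Spor.Fi24', (t : Spor.Fi24) = a * b → t ∉ A := fun a ha b hb hne hab t ht htA =>
    H672.IF.Fi24A.twoA h ha hb hne hab ht htA
  have h1 : t * t = 1 := by rw [← pow_two, ← ho, pow_orderOf_eq_one]
  have h2 : t ≠ 1 := by
    rintro rfl
    rw [orderOf_one] at ho
    omega
  rcases R08.TetFi24C.facts.invol (t : Spor.Fi24) t.2 (congrArg Subtype.val h1) (fun h3 => h2 (Subtype.ext h3)) with
    ⟨a, ha, b, hb, hne, hab, he⟩ | ⟨a, b, c, d, hT⟩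
  · exact hno a ha b hb hne hab t he ht
  · exact Fi24B.twoB hna h hno hT ht

/-- **The row `Fi₂₄'` of S5719.** -/
theorem row_fi24 : Row fun T => Spor.IsoFi24' T := by
  rintro T _ _ hs hT ⟨e⟩ A Γ hA
  have hs' : IsSimpleGroup Spor.Fi24' := (MulEquiv.isSimpleGroup_congr e).1 hs
  have hfin : Finite Spor.Fi24' := Finite.of_equiv _ e.toEquiv
  have hna : ∃ a b : Spor.Fi24', a * b ≠ b * a := by
    by_contra hcon
    push Not at hcon
    refine hT ⟨⟨fun a b => ?_⟩⟩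
    apply e.injective
    rw [map_mul, map_mul, hcon]
  exact Kill.congr e.symm (Kill.of (killE_model hna) H546.IFO.FiTF.killO_model) A Γ hA

end Cfsg.Agent.H979.IFx.Fi24
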